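import Groth.Prelude.Def_AlgSp
import Groth.Agent.AlgSpc.Basic
import Mathlib.CategoryTheory.Adjunction.Unique
import Mathlib.CategoryTheory.Limits.Types.Pullbacks

/-!
The left adjoint `j_!` of restriction of fppf sheaves of sets along `g : S ⟶ S'`:
sections over `T'` are pairs of an `S`-structure on `T'` and a section over it.
-/

universe u

open CategoryTheory CategoryTheory.Limits AlgebraicGeometry Opposite

namespace Groth.Agent.AlgSpJShriek

open _root_.AlgSp

variable {S S' : Scheme.{u}} (g : S ⟶ S')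

/-- Restriction of sheaves along `g`. -/
noncomputable abbrev j : Sp S' ⥤ Sp S := Scheme.fppfTopology.overMapPullback (Type (u + 1)) g

/-- Sections of `j_! F`. -/
structure Sec (F : Sp S) (T : Over S') : Type (u + 1) where
  σ : T.left ⟶ S
  w : σ ≫ g = T.hom
  a : F.obj.obj (op (Over.mk σ))

variable {g}

theorem map_map {B : Scheme.{u}} (F : Sp B) {X Y Z : Over B} (φ : X ⟶ Y) (ψ : Y ⟶ Z) (χ : X ⟶ Z)
    (h : χ.left = φ.left ≫ ψ.left) (a : F.obj.obj (op Z)) :
    F.obj.map φ.op (F.obj.map ψ.op a) = F.obj.map χ.op a := by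
  obtain rfl : χ = φ ≫ ψ := Over.OverMorphism.ext h
  rw [op_comp, Functor.map_comp]
  rfl

theorem map_map' {B : Scheme.{u}} (F : Sp B) {X Y Y' Z : Over B} (φ : X ⟶ Y) (ψ : Y ⟶ Z) (φ' : X ⟶ Y') (ψ' : Y' ⟶ Z)
    (h : φ.left ≫ ψ.left = φ'.left ≫ ψ'.left) (a : F.obj.obj (op Z)) :
    F.obj.map φ.op (F.obj.map ψ.op a) = F.obj.map φ'.op (F.obj.map ψ'.op a) := by
  rw [map_map F φ' ψ' (φ ≫ ψ) h, map_map F φ ψ (φ ≫ ψ) rfl]

theorem map3 {B : Scheme.{u}} (F : Sp B) {X Y₁ Y₂ Y' Z : Over B} (φ : X ⟶ Y₁) (ψ : Y₁ ⟶ Y₂) (θ : Y₂ ⟶ Z)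
    (φ' : X ⟶ Y') (ψ' : Y' ⟶ Z)
    (h : φ.left ≫ ψ.left ≫ θ.left = φ'.left ≫ ψ'.left) (a : F.obj.obj (op Z)) :
    F.obj.map φ.op (F.obj.map ψ.op (F.obj.map θ.op a)) =
      F.obj.map φ'.op (F.obj.map ψ'.op a) := by
  rw [map_map F ψ θ (ψ ≫ θ) rfl]
  exact map_map' F _ _ _ _ h a

theorem map_eq_self {B : Scheme.{u}} (F : Sp B) {X : Over B} (φ : X ⟶ X) (h : φ.left = 𝟙 _)
    (a : F.obj.obj (op X)) : F.obj.map φ.op a = a := by
  obtain rfl : φ = 𝟙 X := Over.OverMorphism.ext h
  simp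

theorem Sec.ext' {F : Sp S} {T : Over S'} {p q : Sec g F T} (h : p.σ = q.σ)
    (h2 : F.obj.map (Over.homMk (U := Over.mk p.σ) (V := Over.mk q.σ) (𝟙 T.left)
      (by simp [h])).op q.a = p.a) : p = q := by
  obtain ⟨σ, w, a⟩ := p
  obtain ⟨σ', w', a'⟩ := q
  obtain rfl : σ = σ' := h
  obtain rfl : a' = a := (map_eq_self F _ rfl a').symm.trans h2
  rfl

theorem Sec.σ_eq {F : Sp S} {T : Over S'} {p q : Sec g F T} (h : p = q) : p.σ = q.σ := by rw [h]

theorem Sec.a_eq {F : Sp S} {T : Over S'} {p q : Sec g F T} (h : p = q) :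
    F.obj.map (Over.homMk (U := Over.mk p.σ) (V := Over.mk q.σ) (𝟙 T.left)
      (by simp [h])).op q.a = p.a := by
  subst h
  exact map_eq_self F _ rfl _

variable (g)

/-- Restriction of sections. -/
def secMap (F : Sp S) {T T' : Over S'} (f : T ⟶ T') (p : Sec g F T') : Sec g F T where
  σ := f.left ≫ p.σ
  w := by rw [Category.assoc, p.w, Over.w]
  a := F.obj.map (Over.homMk (U := Over.mk (f.left ≫ p.σ)) (V := Over.mk p.σ) f.left rfl).op p.a

/-- The presheaf underlying `j_! F`. -/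
def secPre (F : Sp S) : (Over S')ᵒᵖ ⥤ Type (u + 1) where
  obj T := Sec g F T.unop
  map f := ↾ (secMap g F f.unop)
  map_id T := by
    ext p
    refine Sec.ext' (Category.id_comp _) ?_
    show F.obj.map _ p.a = F.obj.map _ p.a
    congr 2
  map_comp f f' := by
    ext p
    refine Sec.ext' (Category.assoc _ _ _) ?_
    show F.obj.map _ (F.obj.map _ (F.obj.map _ p.a)) = F.obj.map _ p.a
    exact (congrArg (F.obj.map _) (map_map F _ _ (Over.homMk (V := Over.mk p.σ)
      (f'.unop.left ≫ f.unop.left) rfl) rfl p.a)).trans (map_map F _ _ _ (Category.id_comp _).symm _)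

theorem secPre_isSheaf (F : Sp S) : Presheaf.IsSheaf (J S') (secPre g F) := by
  rw [isSheaf_iff_isSheaf_of_type]
  intro T R hR x hx
  let R₀ : Sieve T.left := Sieve.overEquiv T R
  have hR₀ : R₀ ∈ Scheme.fppfTopology T.left := hR
  have hS : Presieve.IsSheaf Scheme.fppfTopology (yoneda.obj S) :=
    GrothendieckTopology.Subcanonical.isSheaf_of_isRepresentable _
  have mem : ∀ {Z : Scheme.{u}} {h : Z ⟶ T.left}, R₀ h →
      R (Over.homMk h : Over.mk (h ≫ T.hom) ⟶ T) := fun {Z h} hh =>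
    (Sieve.overEquiv_iff R h).1 hh
  have xeq : ∀ {W W' : Over S'} {f : W ⟶ T} {f' : W' ⟶ T} (hf : R f) (hf' : R f')
      (k : W ⟶ W') (hk : k ≫ f' = f), x f hf = secMap g F k (x f' hf') := by
    intro W W' f f' hf hf' k hk
    subst hk
    exact (Presieve.compatible_iff_sieveCompatible x).1 hx f' k hf'
  let y : Presieve.FamilyOfElements (yoneda.obj S) (R₀ : Presieve T.left) :=
    fun Z h hh => (x _ (mem hh)).σ
  have hy : y.Compatible := by
    rw [Presieve.compatible_iff_sieveCompatible]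
    intro Z W h k hh
    exact Sec.σ_eq (xeq (mem (R₀.downward_closed hh k)) (mem hh)
      (Over.homMk k (by simp)) (Over.OverMorphism.ext rfl))
  obtain ⟨σ, hσ, hσu⟩ := hS R₀ hR₀ y hy
  have hw : σ ≫ g = T.hom := by
    refine ((GrothendieckTopology.Subcanonical.isSheaf_of_isRepresentable (yoneda.obj S'))
      R₀ hR₀).isSeparatedFor.ext fun Z h hh => ?_
    show h ≫ σ ≫ g = h ≫ T.hom
    rw [← Category.assoc, show h ≫ σ = (x _ (mem hh)).σ from hσ h hh]
    exact (x _ (mem hh)).w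
  let R₁ : Sieve (Over.mk σ) := (Sieve.overEquiv (Over.mk σ)).symm R₀
  have hR₁ : R₁ ∈ J S (Over.mk σ) :=
    GrothendieckTopology.overEquiv_symm_mem_over _ _ _ hR₀
  have mem₁ : ∀ {W : Over S} {φ : W ⟶ Over.mk σ}, R₁ φ → R₀ φ.left := fun {W φ} h =>
    h
  have hz0 : ∀ {W : Over S} {φ : W ⟶ Over.mk σ} (h : R₁ φ), W.hom = (x _ (mem (mem₁ h))).σ :=
    fun {W φ} h => ((hσ φ.left (mem₁ h)).symm.trans (Over.w φ)).symm
  let z : Presieve.FamilyOfElements F.obj (R₁ : Presieve (Over.mk σ)) := fun W φ h =>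
    F.obj.map (Over.homMk (U := W) (V := Over.mk (x _ (mem (mem₁ h))).σ) (𝟙 _)
      (by simp [hz0 h])).op (x _ (mem (mem₁ h))).a
  have hz : z.Compatible := by
    rw [Presieve.compatible_iff_sieveCompatible]
    intro W W' φ k h
    have e := xeq (mem (mem₁ (R₁.downward_closed h k))) (mem (mem₁ h))
      (Over.homMk k.left (by simp)) (Over.OverMorphism.ext (by simp))
    show F.obj.map _ _ = F.obj.map k.op (F.obj.map _ _)
    rw [← Sec.a_eq e]
    show F.obj.map _ (F.obj.map _ (F.obj.map _ _)) = F.obj.map k.op (F.obj.map _ _)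
    exact map3 F _ _ _ _ _ (by simp) _
  obtain ⟨a, ha, hau⟩ := (isSheaf_iff_isSheaf_of_type _ _).1 F.property R₁ hR₁ z hz
  refine ⟨⟨σ, hw, a⟩, fun W f hf => ?_, fun p hp => ?_⟩
  · have hf₀ : R₀ f.left := (Sieve.overEquiv_iff R f.left).2
      (by
        have := R.downward_closed hf (Over.homMk (𝟙 W.left) (by simp) :
          Over.mk (f.left ≫ T.hom) ⟶ W)
        convert this using 1
        exact Over.OverMorphism.ext (by simp))
    have e := xeq hf (mem hf₀) (Over.homMk (𝟙 W.left) (by simp)) (Over.OverMorphism.ext (by simp))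
    rw [e]
    have hσ' : f.left ≫ σ = (x _ (mem hf₀)).σ := hσ f.left hf₀
    refine Sec.ext' ((hσ').trans (Category.id_comp _).symm) ?_
    have h₁ : R₁ (Over.homMk f.left rfl : Over.mk (f.left ≫ σ) ⟶ Over.mk σ) :=
      hf₀
    show F.obj.map _ (F.obj.map _ (x _ (mem hf₀)).a) = F.obj.map _ a
    refine Eq.trans ?_ (ha _ h₁).symm
    exact map_map F _ _ _ (by simp) _
  · have hσp : p.σ = σ := hσu p.σ fun Z h hh => by
      show h ≫ p.σ = _
      exact Sec.σ_eq (hp _ (mem hh))
    refine Sec.ext' hσp ?_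
    show F.obj.map _ a = p.a
    have e : F.obj.map (Over.homMk (U := Over.mk σ) (V := Over.mk p.σ) (𝟙 T.left)
        (by simp [hσp])).op p.a = a := hau _ fun W φ h => by
      have e := Sec.a_eq (hp _ (mem (mem₁ h))).symm
      show F.obj.map φ.op (F.obj.map _ p.a) = F.obj.map _ _
      rw [← e]
      show _ = F.obj.map _ (F.obj.map _ (F.obj.map _ p.a))
      have hφ : φ.left ≫ σ = W.hom := Over.w φ
      exact (map3 F _ _ _ _ _ (by simp) _).symm
    rw [← e, map_map F _ _ (Over.homMk (𝟙 T.left) (by simp)) (by simp)]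
    exact map_eq_self F _ rfl _

/-- `j_! F`. -/
noncomputable def obj (F : Sp S) : Sp S' := ⟨secPre g F, secPre_isSheaf g F⟩

/-- `j_!` on morphisms. -/
noncomputable def mapHom {F G : Sp S} (f : F ⟶ G) : obj g F ⟶ obj g G :=
  ObjectProperty.homMk
    { app := fun T => ↾ fun p => (⟨p.σ, p.w, f.hom.app _ p.a⟩ : Sec g G T.unop)
      naturality := fun T T' k => by
        ext p
        refine Sec.ext' rfl ?_
        show G.obj.map _ (G.obj.map _ (f.hom.app _ p.a)) = f.hom.app _ (F.obj.map _ p.a)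
        exact (map_eq_self G _ rfl _).trans (NatTrans.naturality_apply f.hom _ _).symm }

/-- The functor `j_!`. -/
noncomputable def L : Sp S ⥤ Sp S' where
  obj := obj g
  map := mapHom g
  map_id F := rfl
  map_comp f f' := rfl

/-- `Hom(j_! F, A) = Hom(F, j A)`. -/
noncomputable def homEquiv (F : Sp S) (A : Sp S') : ((L g).obj F ⟶ A) ≃ (F ⟶ (j g).obj A) where
  toFun φ := ObjectProperty.homMk
    { app := fun T => ↾ fun a => φ.hom.app (op ((Over.map g).obj T.unop))
        (⟨T.unop.hom, rfl, a⟩ : Sec g F ((Over.map g).obj T.unop))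
      naturality := fun T T' k => by
        ext a
        show φ.hom.app _ _ = A.obj.map ((Over.map g).map k.unop).op (φ.hom.app _ _)
        refine Eq.trans (congrArg _ ?_) (NatTrans.naturality_apply φ.hom _ _)
        refine Sec.ext' (Over.w k.unop).symm ?_
        show F.obj.map _ (F.obj.map _ a) = F.obj.map k a
        exact map_map F _ _ k.unop (by simp) a }
  invFun ψ := ObjectProperty.homMk
    { app := fun T => ↾ fun (p : Sec g F T.unop) =>
        A.obj.map (Over.homMk (U := T.unop) (V := (Over.map g).obj (Over.mk p.σ)) (𝟙 _)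
          (by simp [p.w])).op (ψ.hom.app (op (Over.mk p.σ)) p.a)
      naturality := fun T T' k => by
        ext p
        show A.obj.map _ (ψ.hom.app _ (F.obj.map _ p.a)) = A.obj.map k (A.obj.map _ _)
        exact (congrArg _ (NatTrans.naturality_apply ψ.hom _ _)).trans
          (map_map' A _ _ _ _ (by simp; rfl) _) }
  left_inv φ := by
    refine ObjectProperty.hom_ext _ (NatTrans.ext (funext fun T => ?_))
    ext p
    show A.obj.map _ (φ.hom.app _ _) = φ.hom.app T p
    refine Eq.trans (NatTrans.naturality_apply φ.hom _ _).symm (congrArg _ ?_)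
    refine Sec.ext' (Category.id_comp _) ?_
    exact congrArg (fun e => F.obj.map e _) rfl
  right_inv ψ := by
    refine ObjectProperty.hom_ext _ (NatTrans.ext (funext fun T => ?_))
    ext a
    show A.obj.map _ (ψ.hom.app T a) = ψ.hom.app T a
    exact map_eq_self A _ rfl _

/-- `j_! ⊣ j`. -/
noncomputable def adj : L g ⊣ j g :=
  Adjunction.mkOfHomEquiv
    { homEquiv := homEquiv g
      homEquiv_naturality_left_symm := fun f ψ => rfl
      homEquiv_naturality_right := fun φ f => rfl }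

/-- Comparison with Mathlib's `sheafPullback`. -/
noncomputable def pullbackIso :
    L g ≅ (Over.map g).sheafPullback (Type (u + 1)) (AlgSp.J S) (AlgSp.J S') :=
  (adj g).leftAdjointUniq
    ((Over.map g).sheafAdjunctionContinuous (Type (u + 1)) (AlgSp.J S) (AlgSp.J S'))

end Groth.Agent.AlgSpJShriek
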