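import Groth.Agent.AlgSpJShriek.Basic
import Mathlib.AlgebraicGeometry.Morphisms.Etale

/-!
Pullbacks, representable morphisms and algebraic spaces under `j_!`.
-/

universe u

open CategoryTheory CategoryTheory.Limits AlgebraicGeometry Opposite

namespace Groth.Agent.AlgSpJShriek

open _root_.AlgSp

variable {S S' : Scheme.{u}} {g : S ⟶ S'}

/-- The morphism classified by a section. -/
noncomputable abbrev pt {B : Scheme.{u}} {F : Sp B} {T : Over B} (a : F.obj.obj (op T)) :
    (yon B).obj T ⟶ F := (J B).uliftYonedaEquiv.symm a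

theorem pt_app {B : Scheme.{u}} {F : Sp B} {T T' : Over B} (a : F.obj.obj (op T)) (k : T' ⟶ T) :
    (pt a).hom.app (op T') ⟨k⟩ = F.obj.map k.op a := rfl

theorem pt_comp {B : Scheme.{u}} {F G : Sp B} {T : Over B} (a : F.obj.obj (op T)) (f : F ⟶ G) :
    pt a ≫ f = pt (f.hom.app _ a) := by
  apply (J B).uliftYonedaEquiv.injective
  rw [Equiv.apply_symm_apply]
  exact congrArg (f.hom.app _) (map_eq_self F _ rfl a)

theorem exists_pt {B : Scheme.{u}} {F : Sp B} {T : Over B} (f : (yon B).obj T ⟶ F) :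
    ∃ a, pt a = f := ⟨_, Equiv.symm_apply_apply _ f⟩

theorem Sec.mk_inj {F : Sp S} {T : Over S'} {σ : T.left ⟶ S} {w w' : σ ≫ g = T.hom}
    {a a' : F.obj.obj (op (Over.mk σ))} (h : (⟨σ, w, a⟩ : Sec g F T) = ⟨σ, w', a'⟩) : a = a' := by
  injection h

theorem at_inj {F : Sp S} {T : Over S} {x y : F.obj.obj (op T)}
    (h : (⟨T.hom, rfl, x⟩ : Sec g F ((Over.map g).obj T)) = ⟨T.hom, rfl, y⟩) : x = y :=
  (Sec.a_eq h).symm.trans (map_eq_self F _ rfl y)

variable (g)

theorem L_faithful {F G : Sp S} {φ φ' : F ⟶ G} (h : (L g).map φ = (L g).map φ') : φ = φ' := by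
  refine ObjectProperty.hom_ext _ (NatTrans.ext (funext fun T => ?_))
  ext a
  exact at_inj (congr($(h).hom.app (op ((Over.map g).obj T.unop))
    (⟨T.unop.hom, rfl, a⟩ : Sec g F ((Over.map g).obj T.unop))))

theorem isPullback_iff_sections {B : Scheme.{u}} {P A C D : Sp B} {fst : P ⟶ A} {snd : P ⟶ C}
    {f : A ⟶ D} {h : C ⟶ D} : IsPullback fst snd f h ↔
      ∀ T : Over B, IsPullback (fst.hom.app (op T)) (snd.hom.app (op T)) (f.hom.app (op T))
        (h.hom.app (op T)) := by
  refine ⟨fun sq T => (sq.map (sheafToPresheaf _ _)).app (op T), fun H => ?_⟩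
  have H' : IsPullback fst.hom snd.hom f.hom h.hom :=
    IsPullback.of_forall_isPullback_app fun T => H T.unop
  have w : fst ≫ f = snd ≫ h := ObjectProperty.hom_ext _ H'.w
  exact IsPullback.of_map (sheafToPresheaf _ _) w H'

theorem L_isPullback_iff {P A C D : Sp S} {fst : P ⟶ A} {snd : P ⟶ C} {f : A ⟶ D} {h : C ⟶ D} :
    IsPullback ((L g).map fst) ((L g).map snd) ((L g).map f) ((L g).map h) ↔
      IsPullback fst snd f h := by
  simp only [isPullback_iff_sections, Types.isPullback_iff]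
  constructor
  · intro H T
    obtain ⟨hw, hi, hs⟩ := H ((Over.map g).obj T)
    refine ⟨?_, fun x y hxy => ?_, fun x y hxy => ?_⟩
    · ext a
      exact at_inj (congr($hw (⟨T.hom, rfl, a⟩ : Sec g P ((Over.map g).obj T))))
    · exact at_inj (hi (⟨T.hom, rfl, x⟩ : Sec g P ((Over.map g).obj T)) ⟨T.hom, rfl, y⟩
        ⟨congrArg (fun a => (⟨T.hom, rfl, a⟩ : Sec g A ((Over.map g).obj T))) hxy.1,
          congrArg (fun a => (⟨T.hom, rfl, a⟩ : Sec g C ((Over.map g).obj T))) hxy.2⟩)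
    · obtain ⟨⟨σ, w, a⟩, h1, h2⟩ := hs (⟨T.hom, rfl, x⟩ : Sec g A ((Over.map g).obj T))
        (⟨T.hom, rfl, y⟩ : Sec g C ((Over.map g).obj T))
        (congrArg (fun a => (⟨T.hom, rfl, a⟩ : Sec g D ((Over.map g).obj T))) hxy)
      obtain rfl : σ = T.hom := Sec.σ_eq h1
      exact ⟨a, at_inj h1, at_inj h2⟩
  · intro H T
    refine ⟨?_, fun p q hpq => ?_, fun p q hpq => ?_⟩
    · ext p
      exact congrArg (fun a => (⟨p.σ, p.w, a⟩ : Sec g D T)) (congr($((H (Over.mk p.σ)).1) p.a))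
    · obtain ⟨σ, w, a⟩ := p
      obtain ⟨σ', w', a'⟩ := q
      obtain rfl : σ = σ' := Sec.σ_eq hpq.1
      obtain rfl := (H (Over.mk σ)).2.1 a a' ⟨Sec.mk_inj hpq.1, Sec.mk_inj hpq.2⟩
      rfl
    · obtain ⟨σ, w, a⟩ := p
      obtain ⟨σ', w', a'⟩ := q
      obtain rfl : σ = σ' := Sec.σ_eq hpq
      obtain ⟨c, rfl, rfl⟩ := (H (Over.mk σ)).2.2 a a' (Sec.mk_inj hpq)
      exact ⟨⟨σ, w, c⟩, rfl, rfl⟩

/-- `j_! h_X = h_{gX}`. -/
noncomputable def yonIso (X : Over S) :
    (L g).obj ((yon S).obj X) ≅ (yon S').obj ((Over.map g).obj X) :=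
  (fullyFaithfulSheafToPresheaf _ _).preimageIso <| NatIso.ofComponents (fun T => Equiv.toIso
    { toFun := fun (p : Sec g ((yon S).obj X) T.unop) =>
        ULift.up (Over.homMk (U := T.unop) (V := (Over.map g).obj X) p.a.down.left
          (show p.a.down.left ≫ X.hom ≫ g = T.unop.hom by
            rw [← Category.assoc, Over.w p.a.down]; exact p.w))
      invFun := fun q => (⟨q.down.left ≫ X.hom, (Category.assoc _ _ _).trans (Over.w q.down),
        ULift.up (Over.homMk q.down.left rfl)⟩ : Sec g ((yon S).obj X) T.unop)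
      left_inv := fun p => by
        refine Sec.ext' (Over.w p.a.down) ?_
        exact congrArg ULift.up (Over.OverMorphism.ext (Category.id_comp _))
      right_inv := fun q => rfl })
    (fun k => by ext p; exact congrArg ULift.up (Over.OverMorphism.ext rfl))

theorem yonIso_nat {X Y : Over S} (φ : X ⟶ Y) :
    (L g).map ((yon S).map φ) ≫ (yonIso g Y).hom =
      (yonIso g X).hom ≫ (yon S').map ((Over.map g).map φ) := rfl

theorem yonIso_inv_nat {X Y : Over S} (φ : X ⟶ Y) :
    (yon S').map ((Over.map g).map φ) ≫ (yonIso g Y).inv =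
      (yonIso g X).inv ≫ (L g).map ((yon S).map φ) := by
  rw [Iso.comp_inv_eq, Category.assoc, yonIso_nat, Iso.inv_hom_id_assoc]

/-- A scheme over `S'` with an `S`-structure. -/
noncomputable def overIso {T : Over S'} (σ : T.left ⟶ S) (w : σ ≫ g = T.hom) :
    T ≅ (Over.map g).obj (Over.mk σ) :=
  Over.isoMk (Iso.refl _) (show 𝟙 _ ≫ σ ≫ g = T.hom by rw [Category.id_comp, w])

theorem pt_sec {F : Sp S} {T : Over S'} (p : Sec g F T) :
    pt (F := (L g).obj F) p =
      (yon S').map (overIso g p.σ p.w).hom ≫ (yonIso g (Over.mk p.σ)).inv ≫ (L g).map (pt p.a) := by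
  apply (J S').uliftYonedaEquiv.injective
  refine ((J S').uliftYonedaEquiv.apply_symm_apply _).trans ?_
  refine Sec.ext' (q := ((yon S').map (overIso g p.σ p.w).hom ≫ (yonIso g (Over.mk p.σ)).inv ≫
    (L g).map (pt p.a)).hom.app (op T) ⟨𝟙 T⟩)
    (show p.σ = (𝟙 T.left ≫ 𝟙 T.left) ≫ p.σ by simp) ?_
  exact (map_map _ _ _ (𝟙 _) (by simp [overIso]; rfl) _).trans (map_eq_self F _ rfl _)

/-- Lifting maps into `j_!`. -/
theorem exists_lift {F : Sp S} {V : Over S} (ψ : (yon S').obj ((Over.map g).obj V) ⟶ (L g).obj F)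
    (hψ : Sec.σ ((J S').uliftYonedaEquiv ψ : Sec g F _) = V.hom) :
    ∃ φ : (yon S).obj V ⟶ F, (yonIso g V).inv ≫ (L g).map φ = ψ := by
  obtain ⟨p, rfl⟩ := exists_pt ψ
  rw [Equiv.apply_symm_apply] at hψ
  obtain ⟨σ, w, a⟩ := (p : Sec g F ((Over.map g).obj V))
  obtain rfl : σ = V.hom := hψ
  refine ⟨pt a, ((J S').uliftYonedaEquiv).injective ?_⟩
  refine Eq.trans ?_ ((J S').uliftYonedaEquiv.apply_symm_apply _).symm
  refine Sec.ext' (p := ((yonIso g V).inv ≫ (L g).map (pt a)).hom.app _ ⟨𝟙 _⟩)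
    (show 𝟙 V.left ≫ V.hom = V.hom from Category.id_comp _) ?_
  rfl

theorem exists_sq_L {F G : Sp S} {f : F ⟶ G} (hf : Representable f) {T : Over S'}
    (g' : (yon S').obj T ⟶ (L g).obj G) :
    ∃ (U V : Over S) (b : (yon S).obj U ⟶ G) (fst : (yon S).obj V ⟶ F) (snd : V ⟶ U)
      (e : T ≅ (Over.map g).obj U), IsPullback fst ((yon S).map snd) f b ∧
      IsPullback ((yonIso g V).inv ≫ (L g).map fst)
        ((yon S').map ((Over.map g).map snd ≫ e.inv)) ((L g).map f) g' := by
  obtain ⟨p, rfl⟩ := exists_pt g'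
  obtain ⟨σ, w, b⟩ := (p : Sec g G T)
  obtain ⟨V, fst, snd, sq⟩ := AlgSpc.exists_sq hf (pt b)
  refine ⟨_, V, pt b, fst, snd, overIso g σ w, sq, ?_⟩
  refine ((L_isPullback_iff g).2 sq).of_iso (yonIso g V) (Iso.refl _)
    ((yonIso g _) ≪≫ ((yon S').mapIso (overIso g σ w)).symm) (Iso.refl _) ?_ ?_ ?_ ?_
  · simp
  · simp [reassoc_of% yonIso_nat g snd]
  · simp
  · rw [pt_sec g ⟨σ, w, b⟩]
    simp [← Functor.map_comp_assoc]

theorem representable_L {F G : Sp S} {f : F ⟶ G} (hf : Representable f) :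
    Representable ((L g).map f) := fun T g' => by
  obtain ⟨U, V, b, fst, snd, e, -, sq⟩ := exists_sq_L g hf g'
  exact ⟨_, _, _, sq⟩

theorem repWith_L {P : MorphismProperty Scheme.{u}} [P.RespectsIso] {F G : Sp S} {f : F ⟶ G}
    (hf : RepWith P f) : RepWith P ((L g).map f) :=
  AlgSpc.repWith_mk fun T g' => by
    obtain ⟨U, V, b, fst, snd, e, sq₀, sq⟩ := exists_sq_L g hf.1 g'
    refine ⟨_, _, _, sq, ?_⟩
    haveI : IsIso e.inv.left := inferInstanceAs (IsIso ((Over.forget S').map e.inv))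
    show P (snd.left ≫ e.inv.left)
    exact (MorphismProperty.cancel_right_of_respectsIso P _ _).2 (hf.2 b fst snd sq₀)

theorem exists_sq_of_L {F G : Sp S} {f : F ⟶ G} (hf : Representable ((L g).map f)) {U : Over S}
    (b : (yon S).obj U ⟶ G) :
    ∃ (V' : Over S') (fst' : (yon S').obj V' ⟶ (L g).obj F) (snd' : V' ⟶ (Over.map g).obj U)
      (V : Over S) (fst : (yon S).obj V ⟶ F) (snd : V ⟶ U) (e : V.left ≅ V'.left),
      IsPullback fst' ((yon S').map snd') ((L g).map f) ((yonIso g U).inv ≫ (L g).map b) ∧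
      snd.left = e.hom ≫ snd'.left ∧ IsPullback fst ((yon S).map snd) f b := by
  obtain ⟨V', fst', snd', sq⟩ := AlgSpc.exists_sq hf ((yonIso g U).inv ≫ (L g).map b)
  let V : Over S := Over.mk (snd'.left ≫ U.hom)
  let e : (Over.map g).obj V ≅ V' := Over.isoMk (Iso.refl _)
    (show 𝟙 _ ≫ V'.hom = (snd'.left ≫ U.hom) ≫ g by
      rw [Category.id_comp, Category.assoc]; exact (Over.w snd').symm)
  let snd : V ⟶ U := Over.homMk snd'.left
  have hs : (Over.map g).map snd = e.hom ≫ snd' :=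
    Over.OverMorphism.ext (show snd'.left = 𝟙 _ ≫ snd'.left by simp)
  obtain ⟨φ, hφ⟩ := exists_lift g ((yon S').map e.hom ≫ fst') (by
    have h := congrArg (fun (k : (yon S').obj V' ⟶ (L g).obj G) =>
      Sec.σ ((((yon S').map e.hom ≫ k).hom.app _ ⟨𝟙 _⟩) : Sec g G ((Over.map g).obj V))) sq.w
    refine h.trans ?_
    show (((𝟙 V'.left ≫ 𝟙 V'.left) ≫ snd'.left) ≫ U.hom) = snd'.left ≫ U.hom
    simp)
  refine ⟨V', fst', snd', V, φ, snd, Iso.refl _, sq, by simp [snd], (L_isPullback_iff g).1 ?_⟩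
  refine sq.of_iso ((yon S').mapIso e.symm ≪≫ (yonIso g V).symm) (Iso.refl _) (yonIso g U).symm
    (Iso.refl _) ?_ ?_ ?_ ?_
  · simp only [Iso.trans_hom, Functor.mapIso_hom, Iso.symm_hom, Category.assoc, Iso.refl_hom,
      Category.comp_id, hφ]
    rw [← Functor.map_comp_assoc, e.inv_hom_id, CategoryTheory.Functor.map_id, Category.id_comp]
  · simp only [Iso.trans_hom, Functor.mapIso_hom, Iso.symm_hom, Category.assoc, ← yonIso_inv_nat, hs]
    rw [← Functor.map_comp_assoc, e.inv_hom_id_assoc]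
  · simp
  · simp

theorem representable_of_L {F G : Sp S} {f : F ⟶ G} (hf : Representable ((L g).map f)) :
    Representable f := fun U b => by
  obtain ⟨_, _, _, V, fst, snd, _, _, _, sq⟩ := exists_sq_of_L g hf b
  exact ⟨_, _, _, sq⟩

theorem repWith_L_iff {P : MorphismProperty Scheme.{u}} [P.RespectsIso] {F G : Sp S} {f : F ⟶ G} :
    RepWith P ((L g).map f) ↔ RepWith P f := by
  refine ⟨fun hf => AlgSpc.repWith_mk fun U b => ?_, repWith_L g⟩
  obtain ⟨V', fst', snd', V, fst, snd, e, sq', hs, sq⟩ := exists_sq_of_L g hf.1 b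
  exact ⟨_, _, _, sq, hs ▸ (MorphismProperty.cancel_left_of_respectsIso P _ _).2
    (hf.2 _ fst' snd' sq')⟩

/-! ### algebraic spaces -/

theorem pt_injective {B : Scheme.{u}} {F : Sp B} {T : Over B} {a b : F.obj.obj (op T)}
    (h : pt a = pt b) : a = b := (J B).uliftYonedaEquiv.symm.injective h

theorem prod_ext {B : Scheme.{u}} {A C : Sp B} {T : Over B} {x y : (A ⨯ C : Sp B).obj.obj (op T)}
    (h1 : (prod.fst : A ⨯ C ⟶ A).hom.app _ x = (prod.fst : A ⨯ C ⟶ A).hom.app _ y)
    (h2 : (prod.snd : A ⨯ C ⟶ C).hom.app _ x = (prod.snd : A ⨯ C ⟶ C).hom.app _ y) : x = y := by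
  have : pt x = pt y := by
    apply prod.hom_ext <;> rw [pt_comp, pt_comp]
    · rw [h1]
    · rw [h2]
  exact (J B).uliftYonedaEquiv.symm.injective this

theorem prod_exists {B : Scheme.{u}} {A C : Sp B} {T : Over B} (a : A.obj.obj (op T))
    (c : C.obj.obj (op T)) : ∃ x : (A ⨯ C : Sp B).obj.obj (op T),
      @Eq (A.obj.obj (op T)) ((prod.fst : A ⨯ C ⟶ A).hom.app (op T) x) a ∧
      @Eq (C.obj.obj (op T)) ((prod.snd : A ⨯ C ⟶ C).hom.app (op T) x) c := by
  let x : (A ⨯ C : Sp B).obj.obj (op T) := (J B).uliftYonedaEquiv (prod.lift (pt a) (pt c))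
  have hx : pt x = prod.lift (pt a) (pt c) := Equiv.symm_apply_apply _ _
  exact ⟨x, pt_injective ((pt_comp x _).symm.trans (by rw [hx, prod.lift_fst])),
    pt_injective ((pt_comp x _).symm.trans (by rw [hx, prod.lift_snd]))⟩

/-- The structure map of `j_! F` to `h_S`. -/
noncomputable def π (F : Sp S) : (L g).obj F ⟶ (yon S').obj (Over.mk g) :=
  ObjectProperty.homMk
    { app := fun T => ↾ fun (p : Sec g F T.unop) =>
        ULift.up (Over.homMk (U := T.unop) (V := Over.mk g) p.σ p.w)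
      naturality := fun T T' k => by ext p; exact congrArg ULift.up (Over.OverMorphism.ext rfl) }

theorem π_σ {F : Sp S} {T : Over S'} {p q : Sec g F T}
    (h : (π g F).hom.app (op T) p = (π g F).hom.app (op T) q) : p.σ = q.σ :=
  congrArg CommaMorphism.left (congrArg ULift.down h)

/-- `j_! (F ⨯ F) ⟶ j_! F ⨯ j_! F`. -/
noncomputable abbrev prodC (F : Sp S) : (L g).obj (F ⨯ F) ⟶ (L g).obj F ⨯ (L g).obj F :=
  prod.lift ((L g).map prod.fst) ((L g).map prod.snd)

theorem isPullback_prodC (F : Sp S) :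
    IsPullback (prodC g F) (π g (F ⨯ F)) (prod.map (π g F) (π g F))
      (Limits.diag ((yon S').obj (Over.mk g))) := by
  rw [isPullback_iff_sections]
  intro T
  have c1 : ∀ p, (prod.fst : (L g).obj F ⨯ (L g).obj F ⟶ _).hom.app (op T)
      ((prodC g F).hom.app (op T) p) = ((L g).map prod.fst).hom.app (op T) p := fun p =>
    congr($(prod.lift_fst (f := (L g).map prod.fst) (g := (L g).map (prod.snd : F ⨯ F ⟶ F))).hom.app (op T) p)
  have c2 : ∀ p, (prod.snd : (L g).obj F ⨯ (L g).obj F ⟶ _).hom.app (op T)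
      ((prodC g F).hom.app (op T) p) = ((L g).map prod.snd).hom.app (op T) p := fun p =>
    congr($(prod.lift_snd (f := (L g).map prod.fst) (g := (L g).map (prod.snd : F ⨯ F ⟶ F))).hom.app (op T) p)
  have hw : prodC g F ≫ prod.map (π g F) (π g F) = π g (F ⨯ F) ≫ Limits.diag _ := by
    apply prod.hom_ext <;> simp <;> rfl
  rw [Types.isPullback_iff]
  refine ⟨congr($(hw).hom.app (op T)), fun p q hpq => ?_, fun x s hxs => ?_⟩
  · obtain ⟨σ, w, a⟩ := p
    obtain ⟨σ', w', a'⟩ := q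
    obtain rfl : σ = σ' := congrArg CommaMorphism.left (congrArg ULift.down hpq.2)
    have h1 := (c1 ⟨σ, w, a⟩).symm.trans ((congrArg _ hpq.1).trans (c1 ⟨σ, w', a'⟩))
    have h2 := (c2 ⟨σ, w, a⟩).symm.trans ((congrArg _ hpq.1).trans (c2 ⟨σ, w', a'⟩))
    obtain rfl : a = a' := prod_ext (Sec.mk_inj h1) (Sec.mk_inj h2)
    rfl
  · have d1 : (π g F).hom.app (op T) ((prod.fst : (L g).obj F ⨯ (L g).obj F ⟶ _).hom.app (op T) x) = s :=
      (congr($(prod.map_fst (π g F) (π g F)).hom.app (op T) x)).symm.trans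
        ((congrArg _ hxs).trans (congr($(prod.lift_fst (f := 𝟙 ((yon S').obj (Over.mk g)))
          (g := 𝟙 _)).hom.app (op T) s)))
    have d2 : (π g F).hom.app (op T) ((prod.snd : (L g).obj F ⨯ (L g).obj F ⟶ _).hom.app (op T) x) = s :=
      (congr($(prod.map_snd (π g F) (π g F)).hom.app (op T) x)).symm.trans
        ((congrArg _ hxs).trans (congr($(prod.lift_snd (f := 𝟙 ((yon S').obj (Over.mk g)))
          (g := 𝟙 _)).hom.app (op T) s)))
    generalize e1 : (prod.fst : (L g).obj F ⨯ (L g).obj F ⟶ _).hom.app (op T) x = p at d1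
    generalize e2 : (prod.snd : (L g).obj F ⨯ (L g).obj F ⟶ _).hom.app (op T) x = q at d2
    obtain ⟨σ, w, a⟩ := (p : Sec g F T)
    obtain ⟨σ', w', a'⟩ := (q : Sec g F T)
    obtain rfl : σ = σ' := π_σ g (d1.trans d2.symm)
    obtain ⟨c, hc1, hc2⟩ := prod_exists a a'
    refine ⟨(⟨σ, w, c⟩ : Sec g (F ⨯ F) T), ?_, ?_⟩
    · apply prod_ext
      · exact (c1 _).trans ((congrArg (fun a => (⟨σ, w, a⟩ : Sec g F T)) hc1).trans e1.symm)
      · exact (c2 _).trans ((congrArg (fun a => (⟨σ, w, a⟩ : Sec g F T)) hc2).trans e2.symm)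
    · exact (show (π g (F ⨯ F)).hom.app (op T) (⟨σ, w, c⟩ : Sec g (F ⨯ F) T) = _ from rfl).trans d1

theorem diag_L (F : Sp S) : Limits.diag ((L g).obj F) = (L g).map (Limits.diag F) ≫ prodC g F := by
  apply prod.hom_ext <;>
    simp only [Category.assoc, prod.lift_fst, prod.lift_snd, Limits.diag, ← Functor.map_comp,
      CategoryTheory.Functor.map_id]

theorem isAlgSpace_L_iff (F : Sp S) : IsAlgSpace ((L g).obj F) ↔ IsAlgSpace F := by
  haveI : MorphismProperty.IsStableUnderBaseChange (@Etale : MorphismProperty Scheme.{u}) :=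
    Etale.etale_isStableUnderBaseChange
  haveI : MorphismProperty.RespectsIso (@Etale : MorphismProperty Scheme.{u}) :=
    MorphismProperty.IsStableUnderBaseChange.respectsIso
  haveI : MorphismProperty.RespectsIso (@Surjective : MorphismProperty Scheme.{u}) :=
    MorphismProperty.IsStableUnderBaseChange.respectsIso
  have hc : Representable (prodC g F) :=
    AlgSpc.representable_of_isPullback (isPullback_prodC g F).flip
      (IsAlgSpace.yon_obj _).diag
  haveI : Mono (prodC g F) := (isPullback_prodC g F).flip.mono_snd_of_mono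
  constructor
  · intro h
    refine ⟨representable_of_L g ?_, ?_⟩
    · have sq : IsPullback (𝟙 ((L g).obj F)) ((L g).map (Limits.diag F))
          (Limits.diag ((L g).obj F)) (prodC g F) := by
        rw [diag_L]
        have h₁ : IsPullback (𝟙 ((L g).obj F)) ((L g).map (Limits.diag F))
            ((L g).map (Limits.diag F)) (𝟙 _) := IsPullback.of_horiz_isIso ⟨by simp⟩
        simpa using h₁.paste_vert (IsKernelPair.id_of_mono (prodC g F))
      exact AlgSpc.representable_of_isPullback sq h.diag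
    · obtain ⟨U', p', he, hs⟩ := h.atlas
      obtain ⟨a, rfl⟩ := exists_pt p'
      obtain ⟨σ, w, b⟩ := (a : Sec g F U')
      rw [pt_sec g ⟨σ, w, b⟩, ← Category.assoc] at he hs
      haveI := repWith_isStableUnderBaseChange (S := S') (@Etale : MorphismProperty Scheme.{u})
      haveI : (RepWith (S := S') (@Etale : MorphismProperty Scheme.{u})).RespectsIso :=
        MorphismProperty.IsStableUnderBaseChange.respectsIso
      haveI := repWith_isStableUnderBaseChange (S := S') (@Surjective : MorphismProperty Scheme.{u})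
      haveI : (RepWith (S := S') (@Surjective : MorphismProperty Scheme.{u})).RespectsIso :=
        MorphismProperty.IsStableUnderBaseChange.respectsIso
      exact ⟨Over.mk σ, pt b,
        (repWith_L_iff g).1 ((MorphismProperty.cancel_left_of_respectsIso _ _ _).1 he),
        (repWith_L_iff g).1 ((MorphismProperty.cancel_left_of_respectsIso _ _ _).1 hs)⟩
  · intro h
    refine ⟨?_, ?_⟩
    · rw [diag_L]
      exact MorphismProperty.comp_mem _ _ _ (representable_L g h.diag) hc
    · obtain ⟨U, p, he, hs⟩ := h.atlas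
      exact ⟨_, (yonIso g U).inv ≫ (L g).map p,
        MorphismProperty.RespectsIso.precomp _ _ _ (repWith_L g he),
        MorphismProperty.RespectsIso.precomp _ _ _ (repWith_L g hs)⟩

/-- `j_! j A = h_S ⨯ A`. -/
theorem nonempty_L_j_iso (A : Sp S') :
    Nonempty ((L g).obj ((j g).obj A) ≅ (yon S').obj (Over.mk g) ⨯ A) := by
  let ε : (L g).obj ((j g).obj A) ⟶ A := (homEquiv g _ A).symm (𝟙 _)
  let Φ := prod.lift (π g ((j g).obj A)) ε
  have c1 : ∀ T p, (prod.fst : (yon S').obj (Over.mk g) ⨯ A ⟶ _).hom.app T (Φ.hom.app T p) =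
      (π g ((j g).obj A)).hom.app T p := fun T p =>
    congr($(prod.lift_fst (f := π g ((j g).obj A)) (g := ε)).hom.app T p)
  have c2 : ∀ T p, (prod.snd : (yon S').obj (Over.mk g) ⨯ A ⟶ _).hom.app T (Φ.hom.app T p) =
      ε.hom.app T p := fun T p =>
    congr($(prod.lift_snd (f := π g ((j g).obj A)) (g := ε)).hom.app T p)
  haveI : ∀ T, IsIso (Φ.hom.app T) := fun T => by
    rw [isIso_iff_bijective]
    refine ⟨fun p q hpq => ?_, fun x => ?_⟩
    · have h1 := (c1 T p).symm.trans ((congrArg _ hpq).trans (c1 T q))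
      have h2 := (c2 T p).symm.trans ((congrArg _ hpq).trans (c2 T q))
      obtain ⟨σ, w, a⟩ := (p : Sec g _ T.unop)
      obtain ⟨σ', w', a'⟩ := (q : Sec g _ T.unop)
      obtain rfl : σ = σ' := π_σ g h1
      have h3 := congrArg (A.obj.map (overIso g σ w).inv.op) h2
      obtain rfl : a = a' := by
        have e : ∀ b, A.obj.map (overIso g σ w).inv.op (A.obj.map (overIso g σ w).hom.op b) = b :=
          fun b => (map_map A _ _ (𝟙 _) (by simp [overIso]) b).trans (map_eq_self A _ rfl b)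
        exact (e a).symm.trans (h3.trans (e a'))
      rfl
    · let s := ((prod.fst : (yon S').obj (Over.mk g) ⨯ A ⟶ _).hom.app T x).down
      refine ⟨(⟨s.left, Over.w s, A.obj.map (overIso g s.left (Over.w s)).inv.op
        ((prod.snd : (yon S').obj (Over.mk g) ⨯ A ⟶ _).hom.app T x)⟩ : Sec g _ T.unop), ?_⟩
      apply prod_ext
      · exact (c1 T _).trans (congrArg ULift.up (Over.OverMorphism.ext rfl))
      · refine (c2 T _).trans ?_
        exact (map_map A _ _ (𝟙 _) (by simp [overIso]) _).trans (map_eq_self A _ rfl _)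
  haveI : IsIso Φ.hom := NatIso.isIso_of_isIso_app _
  haveI : IsIso ((sheafToPresheaf (J S') (Type (u + 1))).map Φ) := ‹IsIso Φ.hom›
  haveI : IsIso Φ := isIso_of_reflects_iso Φ (sheafToPresheaf (J S') (Type (u + 1)))
  exact ⟨asIso Φ⟩

end Groth.Agent.AlgSpJShriek
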